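import Groth.Prelude.Def_Coh
import Mathlib.FieldTheory.Perfect
import Mathlib.LinearAlgebra.Dimension.Constructions
import Mathlib.LinearAlgebra.FiniteDimensional.Basic

/-!
Semilinearity of the Frobenius on the cohomology of the structure sheaf.
-/

set_option autoImplicit false

universe u

open CategoryTheory CategoryTheory.Limits AlgebraicGeometry Opposite TopologicalSpace

namespace Groth.Agent.Lib.FrobCoh.Basic

/-- An injective Frobenius-semilinear additive endomorphism of a finite dimensional vector space over a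
perfect field is surjective. -/
theorem surjective_of_semilinear {k V : Type u} [Field k] (p : ℕ) [Fact p.Prime] [CharP k p]
    [PerfectRing k p] [AddCommGroup V] [Module k V] [Module.Finite k V] (F : V →+ V)
    (hF : ∀ (c : k) (x : V), F (c • x) = c ^ p • F x) (hinj : Function.Injective F) :
    Function.Surjective F := by
  classical
  let b := Module.finBasis k V
  have hroot : ∀ c : k, ∃ d : k, d ^ p = c := fun c => (bijective_frobenius k p).2 c
  choose rt hrt using hroot
  have hsum : ∀ g : Fin (Module.finrank k V) → k,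
      F (∑ i, rt (g i) • b i) = ∑ i, g i • F (b i) := by
    intro g
    rw [map_sum]
    exact Finset.sum_congr rfl fun i _ => by rw [hF, hrt]
  have hli : LinearIndependent k fun i => F (b i) := by
    rw [Fintype.linearIndependent_iff]
    intro g hg i
    have h0 : ∑ j, rt (g j) • b j = 0 := hinj (by rw [hsum, hg, map_zero])
    rw [← hrt (g i), Fintype.linearIndependent_iff.mp b.linearIndependent _ h0 i,
      zero_pow (Fact.out : p.Prime).ne_zero]
  have hspan : ⊤ ≤ Submodule.span k (Set.range fun i => F (b i)) :=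
    (hli.span_eq_top_of_card_eq_finrank' (by simp)).ge
  intro y
  obtain ⟨g, hg⟩ := (Submodule.mem_span_range_iff_exists_fun k).mp (hspan (Submodule.mem_top : y ∈ ⊤))
  exact ⟨∑ i, rt (g i) • b i, (hsum g).trans hg⟩

theorem smulAb_comp {X : Scheme.{u}} (p : ℕ)
    (φ : Coh.toAb (Coh.structureModule X) ⟶ Coh.toAb (Coh.structureModule X))
    (hφ : ∀ (U : X.Opens) (t : Γ(X, U)), φ.hom.app (op U) t = t ^ p) (r : Coh.Γtop X) :
    Coh.smulAb (Coh.structureModule X) r ≫ φ = φ ≫ Coh.smulAb (Coh.structureModule X) (r ^ p) := by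
  apply Sheaf.hom_ext
  apply NatTrans.ext
  funext U
  ext m
  change φ.hom.app (op U.unop) (((Coh.smulAb (Coh.structureModule X) r).hom.app U).hom m) =
    ((Coh.smulAb (Coh.structureModule X) (r ^ p)).hom.app U).hom (φ.hom.app (op U.unop) m)
  refine (hφ U.unop _).trans ?_
  refine Eq.trans ?_
    (congrArg ((Coh.smulAb (Coh.structureModule X) (r ^ p)).hom.app U).hom (hφ U.unop m)).symm
  change @HPow.hPow Γ(X, U.unop) ℕ _ _
      (@HMul.hMul Γ(X, U.unop) Γ(X, U.unop) Γ(X, U.unop) _ (Coh.resTop X U r) m) p =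
    @HMul.hMul Γ(X, U.unop) Γ(X, U.unop) Γ(X, U.unop) _ (Coh.resTop X U (r ^ p)) _
  refine (mul_pow (M := Γ(X, U.unop)) (Coh.resTop X U r) m p).trans ?_
  exact congrArg (fun z : Γ(X, U.unop) => z * @HPow.hPow Γ(X, U.unop) ℕ Γ(X, U.unop) _ m p) (map_pow (Coh.resTop X U) r p).symm

theorem map_smul_frobenius {k : Type u} [CommRing k] {X : Scheme.{u}}
    [X.Over (Spec (CommRingCat.of k))] (p : ℕ)
    (φ : Coh.toAb (Coh.structureModule X) ⟶ Coh.toAb (Coh.structureModule X))
    (hφ : ∀ (U : X.Opens) (t : Γ(X, U)), φ.hom.app (op U) t = t ^ p)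
    (i : ℕ) (c : k) (x : Coh.HH X (Coh.structureModule X) i) :
    Sheaf.H.map φ i (c • x) = c ^ p • Sheaf.H.map φ i x := by
  have hr : Coh.toGlobal (X ↘ Spec (CommRingCat.of k)) (c ^ p) =
      (Coh.toGlobal (X ↘ Spec (CommRingCat.of k)) c) ^ p := map_pow _ c p
  show Sheaf.H.map φ i (Sheaf.H.map (Coh.smulAb _ (Coh.toGlobal (X ↘ Spec (CommRingCat.of k)) c)) i x) =
    Sheaf.H.map (Coh.smulAb _ (Coh.toGlobal (X ↘ Spec (CommRingCat.of k)) (c ^ p))) i (Sheaf.H.map φ i x)
  rw [hr, ← Sheaf.H.map_comp_apply, ← Sheaf.H.map_comp_apply, smulAb_comp p φ hφ]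

theorem subsingleton_H_cokernel {k : Type u} [Field k] (p : ℕ) [Fact p.Prime] [CharP k p]
    [PerfectRing k p] {X : Scheme.{u}} [X.Over (Spec (CommRingCat.of k))]
    (φ : Coh.toAb (Coh.structureModule X) ⟶ Coh.toAb (Coh.structureModule X))
    (hφ : ∀ (U : X.Opens) (t : Γ(X, U)), φ.hom.app (op U) t = t ^ p)
    (s : Coh.toAb (Coh.structureModule X) ⟶ Coh.toAb (Coh.structureModule X)) (hs : φ ≫ s = 𝟙 _)
    (i : ℕ) [Module.Finite k (Coh.HH X (Coh.structureModule X) i)] :
    Subsingleton (Sheaf.H (cokernel φ) i) := by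
  have hinj : Function.Injective (Sheaf.H.map φ i) :=
    Function.LeftInverse.injective (g := Sheaf.H.map s i) fun x => by
      rw [← Sheaf.H.map_comp_apply, hs, Sheaf.H.map_id_apply]
  have hsurj : Function.Surjective (Sheaf.H.map φ i) :=
    surjective_of_semilinear (k := k) p (Sheaf.H.map φ i) (fun (c : k) x => map_smul_frobenius p φ hφ i c x) hinj
  let σ : cokernel φ ⟶ Coh.toAb (Coh.structureModule X) :=
    cokernel.desc φ (𝟙 _ - s ≫ φ) (by rw [Preadditive.comp_sub, ← Category.assoc, hs]; simp)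
  have hσ : σ ≫ cokernel.π φ = 𝟙 _ := by
    rw [← cancel_epi (cokernel.π φ), cokernel.π_desc_assoc]
    simp
  refine subsingleton_of_forall_eq 0 fun y => ?_
  obtain ⟨x, hx⟩ := hsurj (Sheaf.H.map σ i y)
  calc y = Sheaf.H.map (σ ≫ cokernel.π φ) i y := by rw [hσ, Sheaf.H.map_id_apply]
    _ = Sheaf.H.map (φ ≫ cokernel.π φ) i x := by
        rw [Sheaf.H.map_comp_apply, Sheaf.H.map_comp_apply, hx]
    _ = 0 := by
        rw [cokernel.condition]
        change ((Sheaf.functorH _ i).map _).hom x = 0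
        rw [Functor.map_zero]
        rfl

end Groth.Agent.Lib.FrobCoh.Basic
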