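import Groth.Prelude.Def_Coh
import Groth.Agent.Lib.Ample.Extend
import Groth.Agent.Lib.TensorMod.GenLocal
import Mathlib.FieldTheory.Perfect
import Mathlib.LinearAlgebra.Dimension.Constructions

/-!
The `p`-th power map `L → L^{⊗ p}` of an invertible module and its splitting by a Frobenius splitting.
-/

set_option autoImplicit false

noncomputable section

universe u

open CategoryTheory CategoryTheory.Limits AlgebraicGeometry Opposite TopologicalSpace

namespace Groth.Agent.Lib.FrobCoh.Twisted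

open Groth.Agent.Lib.TensorMod Groth.Agent.Lib.TensorMod.Dual Groth.Agent.Lib.TensorMod.Gen
  Groth.Agent.Lib.Ample.Extend

variable {X : Scheme.{u}}

theorem exists_cover {L : X.Modules} (hL : PicF.IsInvertible L) :
    ∃ (U : X → X.Opens) (e : ∀ x, Γ(L, U x)), iSup U = ⊤ ∧ ∀ x, IsGen L (U x) (e x) := by
  choose U e hx he using isInvertible_iff.1 hL
  exact ⟨U, e, top_le_iff.1 fun x _ => Opens.mem_iSup.2 ⟨x, hx x⟩, he⟩

variable (p : ℕ) (φ : Coh.toAb (Coh.structureModule X) ⟶ Coh.toAb (Coh.structureModule X))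
  (hφ : ∀ (U : X.Opens) (t : Γ(X, U)), φ.hom.app (op U) t = t ^ p)

include hφ in
theorem add_pow (U : X.Opens) (a b : Γ(X, U)) : (a + b) ^ p = a ^ p + b ^ p := by
  rw [← hφ, ← hφ, ← hφ]
  exact map_add (φ.hom.app (op U)).hom a b

include hφ in
theorem powSec_add {L : X.Modules} (hL : PicF.IsInvertible L) (V : X.Opens) (x y : Γ(L, V)) :
    powSec (x + y) p = powSec x p + powSec y p := by
  obtain ⟨U, e, hU, he⟩ := exists_cover hL
  refine HomGlue.sections_ext_cover U _ (by rw [hU]; exact le_top) fun i => ?_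
  obtain ⟨a, ha⟩ := (he i (V ⊓ U i) inf_le_right).2 (rs L inf_le_left x)
  obtain ⟨b, hb⟩ := (he i (V ⊓ U i) inf_le_right).2 (rs L inf_le_left y)
  rw [rs_powSec, HomGlue.rs_add, HomGlue.rs_add, rs_powSec, rs_powSec, ← ha, ← hb, ← add_smul,
    powSec_smul, powSec_smul, powSec_smul, add_pow p φ hφ, add_smul]

/-- The `p`-th power map. -/
def pw {L : X.Modules} (hL : PicF.IsInvertible L) :
    Coh.toAb L ⟶ Coh.toAb (CohB1.tensorPow L p) :=
  ⟨{ app := fun U => AddCommGrpCat.ofHom
      (show Γ(L, U.unop) →+ Γ(CohB1.tensorPow L p, U.unop) from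
        AddMonoidHom.mk' (fun x => powSec x p) (powSec_add p φ hφ hL U.unop))
     naturality := fun U V i => by
      ext x
      exact (rs_powSec (leOfHom i.unop) x p).symm }⟩

variable (s : Coh.toAb (Coh.structureModule X) ⟶ Coh.toAb (Coh.structureModule X))

/-- The value of the splitting on functions. -/
def sp (U : X.Opens) (a : Γ(X, U)) : Γ(X, U) :=
  s.hom.app (op U) a

theorem sp_add (U : X.Opens) (a b : Γ(X, U)) : sp s U (a + b) = sp s U a + sp s U b :=
  map_add (s.hom.app (op U)).hom a b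

theorem rf_sp {U V : X.Opens} (h : V ≤ U) (a : Γ(X, U)) : rf h (sp s U a) = sp s V (rf h a) :=
  (ConcreteCategory.congr_hom (s.hom.naturality (homOfLE h).op) a).symm

/-- `y` is the image of `x` under the splitting, tested on all generators. -/
def R (L : X.Modules) (V : X.Opens) (x : Γ(CohB1.tensorPow L p, V)) (y : Γ(L, V)) : Prop :=
  ∀ (W : X.Opens) (h : W ≤ V) (e : Γ(L, W)), IsGen L W e → ∀ b : Γ(X, W),
    rs _ h x = b • powSec e p → rs L h y = sp s W b • e

variable (hlin : ∀ (U : X.Opens) (a b : Γ(X, U)), sp s U (a ^ p * b) = a * sp s U b)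

theorem R_rs {L : X.Modules} {V V' : X.Opens} (h : V' ≤ V) {x : Γ(CohB1.tensorPow L p, V)}
    {y : Γ(L, V)} (hR : R p s L V x y) : R p s L V' (rs _ h x) (rs L h y) := by
  intro W hW e he b hb
  rw [rs_rs] at hb ⊢
  exact hR W (hW.trans h) e he b hb

include hlin in
theorem R_of_gen {L : X.Modules} {V : X.Opens} {e₀ : Γ(L, V)} (he₀ : IsGen L V e₀) (b₀ : Γ(X, V)) :
    R p s L V (b₀ • powSec e₀ p) (sp s V b₀ • e₀) := by
  intro W h e he b hb
  obtain ⟨u, hu⟩ := (he₀ W h).2 e
  rw [rs_smul, rs_powSec, ← hu, powSec_smul, smul_smul] at hb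
  have hb' : rf h b₀ = b * u ^ p :=
    ((isGen_powSec (he₀.res h) p) W le_rfl).1 (by simpa only [rs_self] using hb)
  rw [rs_smul, rf_sp, hb', mul_comm, hlin, ← hu, smul_smul, mul_comm]

include hlin in
theorem existsUnique_R {L : X.Modules} (hL : PicF.IsInvertible L) (V : X.Opens)
    (x : Γ(CohB1.tensorPow L p, V)) : ∃! y, R p s L V x y := by
  obtain ⟨U, e, hU, he⟩ := exists_cover hL
  have hg : ∀ i, IsGen L (V ⊓ U i) (rs L inf_le_right (e i)) := fun i => (he i).res inf_le_right
  choose b hb using fun i => ((isGen_powSec (hg i) p) (V ⊓ U i) le_rfl).2 (rs _ inf_le_left x)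
  have hb' : ∀ i, b i • powSec (rs L inf_le_right (e i)) p = rs _ inf_le_left x := fun i => by
    simpa only [rs_self] using hb i
  let y₀ : ∀ i, Γ(L, V ⊓ U i) := fun i => sp s _ (b i) • rs L inf_le_right (e i)
  have hR : ∀ i, R p s L (V ⊓ U i) (rs _ inf_le_left x) (y₀ i) := fun i => by
    rw [← hb']
    exact R_of_gen p s hlin (hg i) (b i)
  have hcompat : TopCat.Presheaf.IsCompatible L.presheaf (fun i => V ⊓ U i) y₀ := fun i j => by
    let W := (V ⊓ U i) ⊓ (V ⊓ U j)
    change rs L (inf_le_left : W ≤ V ⊓ U i) (y₀ i) = rs L (inf_le_right : W ≤ V ⊓ U j) (y₀ j)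
    have hgW : IsGen L W (rs L inf_le_right (rs L inf_le_right (e j))) := (hg j).res inf_le_right
    obtain ⟨c, hc⟩ := ((isGen_powSec hgW p) W le_rfl).2
      (rs _ (inf_le_left.trans inf_le_left : W ≤ V) x)
    simp only [rs_self] at hc
    rw [hR i W inf_le_left _ hgW c (by rw [rs_rs]; exact hc.symm),
      hR j W inf_le_right _ hgW c (by rw [rs_rs]; exact hc.symm)]
  obtain ⟨y, hy, huy⟩ := TopCat.Sheaf.existsUnique_gluing'
    (⟨L.presheaf, L.isSheaf⟩ : TopCat.Sheaf Ab.{u} X) (fun i => V ⊓ U i) V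
    (fun i => homOfLE inf_le_left) (by rw [← inf_iSup_eq, hU]; exact le_inf le_rfl le_top) y₀ hcompat
  refine ⟨y, ?_, fun y' hy' => huy y' fun i => ?_⟩
  · intro W h e' he' b' hb''
    refine HomGlue.sections_ext_cover U L (by rw [hU]; exact le_top) fun i => ?_
    have hle : W ⊓ U i ≤ V ⊓ U i := inf_le_inf_right _ h
    rw [rs_rs, ← rs_rs L inf_le_left hle,
      show rs L (inf_le_left : V ⊓ U i ≤ V) y = y₀ i from hy i]
    refine (hR i _ hle _ (he'.res inf_le_left) (rf inf_le_left b') ?_).trans ?_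
    swap
    · rw [← rf_sp, ← rs_smul]
    rw [rs_rs, ← rs_rs _ h (inf_le_left : W ⊓ U i ≤ W), hb'', rs_smul, rs_powSec]
  · change rs L (inf_le_left : V ⊓ U i ≤ V) y' = y₀ i
    exact hy' _ inf_le_left _ (hg i) (b i) (hb' i).symm

include hlin in
theorem R_add {L : X.Modules} (V : X.Opens) {x x' : Γ(CohB1.tensorPow L p, V)}
    {y y' : Γ(L, V)} (h : R p s L V x y) (h' : R p s L V x' y') :
    R p s L V (x + x') (y + y') := by
  intro W hW e he b hb
  obtain ⟨c, hc⟩ := ((isGen_powSec he p) W le_rfl).2 (rs _ hW x)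
  obtain ⟨c', hc'⟩ := ((isGen_powSec he p) W le_rfl).2 (rs _ hW x')
  simp only [rs_self] at hc hc'
  rw [HomGlue.rs_add, ← hc, ← hc', ← add_smul] at hb
  have hb' : c + c' = b := ((isGen_powSec he p) W le_rfl).1 (by simpa only [rs_self] using hb)
  rw [HomGlue.rs_add, h W hW e he c hc.symm, h' W hW e he c' hc'.symm, ← add_smul, ← sp_add, hb']

/-- The splitting of the `p`-th power map. -/
def ret {L : X.Modules} (hL : PicF.IsInvertible L) :
    Coh.toAb (CohB1.tensorPow L p) ⟶ Coh.toAb L :=
  ⟨{ app := fun U => AddCommGrpCat.ofHom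
      (show Γ(CohB1.tensorPow L p, U.unop) →+ Γ(L, U.unop) from
        AddMonoidHom.mk' (fun x => (existsUnique_R p s hlin hL U.unop x).choose) fun x x' =>
          ((existsUnique_R p s hlin hL U.unop (x + x')).choose_spec.2 _
            (R_add p s hlin U.unop (existsUnique_R p s hlin hL U.unop x).choose_spec.1
              (existsUnique_R p s hlin hL U.unop x').choose_spec.1)).symm)
     naturality := fun U V i => by
      ext x
      exact ((existsUnique_R p s hlin hL V.unop _).choose_spec.2 _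
        (R_rs p s (leOfHom i.unop) (existsUnique_R p s hlin hL U.unop x).choose_spec.1)).symm }⟩

include hlin in
theorem pw_ret {L : X.Modules} (hL : PicF.IsInvertible L)
    (hs : ∀ (U : X.Opens) (a : Γ(X, U)), sp s U (a ^ p) = a) :
    pw p φ hφ hL ≫ ret p s hlin hL = 𝟙 _ := by
  ext U x
  obtain ⟨x, rfl⟩ : ∃ x' : Γ(L, U.unop), x' = x := ⟨x, rfl⟩
  refine ((existsUnique_R p s hlin hL U.unop _).choose_spec.2 x ?_).symm
  intro W h e he b hb
  obtain ⟨a, ha⟩ := (he W le_rfl).2 (rs L h x)
  simp only [rs_self] at ha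
  change rs _ h (powSec x p) = b • powSec e p at hb
  rw [rs_powSec, ← ha, powSec_smul] at hb
  have hb' : a ^ p = b := ((isGen_powSec he p) W le_rfl).1 (by simpa only [rs_self] using hb)
  rw [← hb', hs, ha]

theorem smulAb_pw {L : X.Modules} (hL : PicF.IsInvertible L) (r : Coh.Γtop X) :
    Coh.smulAb L r ≫ pw p φ hφ hL = pw p φ hφ hL ≫ Coh.smulAb (CohB1.tensorPow L p) (r ^ p) := by
  ext U x
  refine (powSec_smul (show Γ(X, U.unop) from Coh.resTop X U r) x p).trans ?_
  exact congrArg (fun t : Γ(X, U.unop) => t • powSec (show Γ(L, U.unop) from x) p)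
    (map_pow (Coh.resTop X U) r p).symm

/-- An injective Frobenius-semilinear map does not decrease dimensions. -/
theorem finrank_le_of_semilinear {k V W : Type u} [Field k] [Fact p.Prime] [CharP k p]
    [PerfectRing k p] [AddCommGroup V] [Module k V] [Module.Finite k V] [AddCommGroup W]
    [Module k W] [Module.Finite k W] (F : V →+ W)
    (hF : ∀ (c : k) (x : V), F (c • x) = c ^ p • F x) (hinj : Function.Injective F) :
    Module.finrank k V ≤ Module.finrank k W := by
  classical
  let b := Module.finBasis k V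
  have hroot : ∀ c : k, ∃ d : k, d ^ p = c := fun c => (bijective_frobenius k p).2 c
  choose rt hrt using hroot
  have hli : LinearIndependent k fun i => F (b i) := by
    rw [Fintype.linearIndependent_iff]
    intro g hg i
    have h0 : ∑ j, rt (g j) • b j = 0 := hinj (by
      rw [map_sum, map_zero, ← hg]
      exact Finset.sum_congr rfl fun j _ => by rw [hF, hrt])
    rw [← hrt (g i), Fintype.linearIndependent_iff.mp b.linearIndependent _ h0 i,
      zero_pow (Fact.out : p.Prime).ne_zero]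
  simpa using hli.fintype_card_le_finrank

end Groth.Agent.Lib.FrobCoh.Twisted
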